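import Mathlib
import Groth.Agent.S0114
import Groth.Agent.S9844
import Groth.Agent.S10580
import Groth.Agent.Lib.Helper9.FTDesc

/-!
# Locally of finite presentation / finite type are fppf local on the source (schemes and spaces)
-/

set_option autoImplicit false
universe u
open CategoryTheory CategoryTheory.Limits AlgebraicGeometry Opposite

namespace Groth.Agent.Helper19.SrcLoc

theorem lfp_isLocalAtSource_fppf :
    MorphismProperty.IsLocalAtSource (@LocallyOfFinitePresentation : MorphismProperty Scheme.{u})
      Scheme.fppfPrecoverage := by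
  refine ⟨?_, ?_⟩
  · intro X Y f R hR U g hg hf
    have hg' : (@Flat ⊓ @LocallyOfFinitePresentation : MorphismProperty Scheme.{u}) g := hR.2 hg
    haveI : LocallyOfFinitePresentation g := hg'.2
    haveI : LocallyOfFinitePresentation f := hf
    exact (inferInstance : LocallyOfFinitePresentation (g ≫ f))
  · intro X Y f R hR h
    exact Groth.Agent.Helper9.FTDesc.of_presieve (P := @LocallyOfFinitePresentation)
      (fun e h _ _ _ he => by
        haveI : LocallyOfFinitePresentation (e ≫ h) := he
        exact Groth.Agent.S0114.result e h)
      f R hR h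

theorem isLocalOnSource_fppf_locP_lfp (S : Scheme.{u}) :
    AlgSp.IsLocalOnSource (AlgSp.IsFppfCover (S := S))
      (AlgSp.LocP @LocallyOfFinitePresentation) :=
  (Groth.Agent.S10580.result S @LocallyOfFinitePresentation).2.1 lfp_isLocalAtSource_fppf

theorem isLocalOnSource_fppf_locP_lft (S : Scheme.{u}) :
    AlgSp.IsLocalOnSource (AlgSp.IsFppfCover (S := S))
      (AlgSp.LocP @LocallyOfFiniteType) :=
  (Groth.Agent.S10580.result S @LocallyOfFiniteType).2.1 Groth.Agent.S9844.result

end Groth.Agent.Helper19.SrcLoc
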