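import Mathlib
import Groth.Agent.S9844
import Groth.Agent.Lib.Helper19.SrcLoc.Lfp
import Groth.Agent.Lib.Helper16.AlgSp.FlatSrc
import Groth.Agent.Lib.Helper16.AlgSp.SrcLoc
import Groth.Agent.Lib.Helper7.FinPres

/-!
# Retract property and the "section trick" for properties fppf-local on the source
-/

set_option autoImplicit false
universe u
open CategoryTheory CategoryTheory.Limits AlgebraicGeometry Opposite

namespace Groth.Agent.Helper19.SrcLoc

/-- `P k` follows from `P (p ≫ k)` whenever `p` has a section. -/
def HasRetractProp (P : MorphismProperty Scheme.{u}) : Prop :=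
  ∀ ⦃A B W : Scheme.{u}⦄ (p : A ⟶ B) (s : B ⟶ A) (k : B ⟶ W), s ≫ p = 𝟙 B → P (p ≫ k) → P k

theorem hasRetractProp_lft : HasRetractProp (@LocallyOfFiniteType : MorphismProperty Scheme.{u}) := by
  intro A B W p s k hs h
  haveI : LocallyOfFiniteType (p ≫ k) := h
  haveI : LocallyOfFiniteType (s ≫ p) := by rw [hs]; infer_instance
  haveI : LocallyOfFiniteType s := locallyOfFiniteType_of_comp s p
  have : k = s ≫ (p ≫ k) := by rw [← Category.assoc, hs, Category.id_comp]
  rw [this]
  exact (inferInstance : LocallyOfFiniteType (s ≫ (p ≫ k)))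

theorem hasRetractProp_lfp :
    HasRetractProp (@LocallyOfFinitePresentation : MorphismProperty Scheme.{u}) := by
  intro A B W p s k hs h
  haveI : LocallyOfFinitePresentation (p ≫ k) := h
  haveI : LocallyOfFiniteType (p ≫ k) := inferInstance
  haveI : LocallyOfFiniteType p := locallyOfFiniteType_of_comp p k
  have h1 : LocallyOfFinitePresentation (s ≫ p) := by rw [hs]; infer_instance
  haveI : LocallyOfFinitePresentation s :=
    Groth.Agent.Helper7.locallyOfFinitePresentation_of_comp s p h1 inferInstance
  have : k = s ≫ (p ≫ k) := by rw [← Category.assoc, hs, Category.id_comp]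
  rw [this]
  exact (inferInstance : LocallyOfFinitePresentation (s ≫ (p ≫ k)))

theorem ringHom_flat_of_retract {R C A : Type*} [CommRing R] [CommRing C] [CommRing A]
    (φ : R →+* C) (ψ : C →+* A) (r : A →+* C) (h : r.comp ψ = RingHom.id C)
    (hf : (ψ.comp φ).Flat) : φ.Flat := by
  letI := φ.toAlgebra
  letI := (ψ.comp φ).toAlgebra
  haveI : Module.Flat R A := hf
  show Module.Flat R C
  let i : C →ₗ[R] A :=
    { toFun := ψ
      map_add' := map_add ψ
      map_smul' := by
        intro c x
        simp only [Algebra.smul_def, RingHom.algebraMap_toAlgebra, map_mul, RingHom.id_apply,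
          RingHom.comp_apply] }
  let ρ : A →ₗ[R] C :=
    { toFun := r
      map_add' := map_add r
      map_smul' := by
        intro c x
        have := congr($h (φ c))
        simp only [RingHom.comp_apply, RingHom.id_apply] at this
        simp only [Algebra.smul_def, RingHom.algebraMap_toAlgebra, map_mul, RingHom.id_apply,
          RingHom.comp_apply, this] }
  refine Module.Flat.of_retract i ρ ?_
  ext x
  exact congr($h x)

theorem hasRetractProp_flat : HasRetractProp (@Flat : MorphismProperty Scheme.{u}) := by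
  intro A B W p s k hs h
  haveI : Flat (p ≫ k) := h
  rw [Flat.iff_flat_stalkMap]
  intro y
  have e : p (s y) = y := by
    have := congr($(hs) y)
    simpa using this
  have h1 := (Flat.iff_flat_stalkMap (f := p ≫ k)).1 h (s y)
  rw [Scheme.Hom.stalkMap_comp] at h1
  -- the retraction of `p.stalkMap (s y)`
  have h2 : (s ≫ p).stalkMap y = p.stalkMap (s y) ≫ s.stalkMap y :=
    Scheme.Hom.stalkMap_comp s p y
  obtain ⟨iso, h3⟩ : ∃ iso : B.presheaf.stalk ((s ≫ p) y) ≅ B.presheaf.stalk y,
      p.stalkMap (s y) ≫ s.stalkMap y = iso.hom := by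
    refine ⟨B.presheaf.stalkCongr (.of_eq (hs ▸ rfl : (s ≫ p) y = (𝟙 B : B ⟶ B) y)), ?_⟩
    rw [← h2, Scheme.Hom.stalkMap_congr_hom (s ≫ p) (𝟙 B) hs y, Scheme.Hom.stalkMap_id]
    exact Category.comp_id _
  rw [← e]
  refine ringHom_flat_of_retract (k.stalkMap (p (s y))).hom (p.stalkMap (s y)).hom
    (s.stalkMap y ≫ iso.inv).hom ?_ h1
  have : p.stalkMap (s y) ≫ (s.stalkMap y ≫ iso.inv) = 𝟙 _ := by
    rw [← Category.assoc, h3]
    exact iso.hom_inv_id
  ext x
  exact congr($(this).hom x)

theorem flat_isLocalAtSource_fppf :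
    MorphismProperty.IsLocalAtSource (@Flat : MorphismProperty Scheme.{u})
      Scheme.fppfPrecoverage := by
  refine ⟨?_, ?_⟩
  · intro X Y f R hR U g hg hf
    have hg' : (@Flat ⊓ @LocallyOfFinitePresentation : MorphismProperty Scheme.{u}) g := hR.2 hg
    haveI : Flat g := hg'.1
    haveI : Flat f := hf
    exact (inferInstance : Flat (g ≫ f))
  · intro X Y f R hR h
    have hsurj := (Presieve.mem_comap_jointlySurjectivePrecoverage_iff (F := Scheme.forget)).1 hR.1
    choose U g hg u hu using hsurj
    refine Groth.Agent.Helper16.AS.flat_of_flat_comp_of_jointly_surjective f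
      (ι := X) (W := U) g (fun x => (hR.2 (hg x)).1) ?_ (fun x => h (hg x))
    intro x
    exact ⟨x, u x, hu x⟩

end Groth.Agent.Helper19.SrcLoc
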