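import Mathlib
import Groth.Agent.Lib.Helper19.SrcLoc.Retract
import Groth.Agent.Lib.Helper15.AlgSpBasic
import Groth.Agent.Lib.Helper15.AlgSpUnram

/-!
# `LocP P` cancels locally surjective maps on the right (for `P` = flat, lft, lfp)
-/

set_option autoImplicit false
universe u
open CategoryTheory CategoryTheory.Limits AlgebraicGeometry Opposite MorphismProperty
open AlgSp

namespace Groth.Agent.Helper19.SrcLoc

open Groth.Agent.Helper15

/-- The section trick: `t ≫ γ = ρ` with `ρ` flat lfp, and `P (γ ≫ k)`, then `P (ρ ≫ k)`. -/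
theorem section_trick (P : MorphismProperty Scheme.{u})
    [P.IsLocalAtSource Scheme.fppfPrecoverage] (hr : HasRetractProp P)
    {A B C W : Scheme.{u}} (t : A ⟶ B) (γ : B ⟶ C) (ρ : A ⟶ C) [Flat ρ]
    [LocallyOfFinitePresentation ρ] (h : t ≫ γ = ρ) (k : C ⟶ W) (hk : P (γ ≫ k)) :
    P (ρ ≫ k) := by
  -- Q = B ×_C A
  let τ : A ⟶ pullback γ ρ := pullback.lift t (𝟙 A) (by rw [h, Category.id_comp])
  have hτ : τ ≫ pullback.snd γ ρ = 𝟙 A := pullback.lift_snd _ _ _
  have hq₁ : (@Flat ⊓ @LocallyOfFinitePresentation : MorphismProperty Scheme.{u})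
      (pullback.fst γ ρ) := ⟨inferInstance, inferInstance⟩
  obtain ⟨R, hR, hRq⟩ := Groth.Agent.Helper16.AS.pair_mem_precoverage
    (Q := (@Flat ⊓ @LocallyOfFinitePresentation : MorphismProperty Scheme.{u})) _ hq₁
  have h1 : P (pullback.fst γ ρ ≫ (γ ≫ k)) :=
    MorphismProperty.IsLocalAtSource.comp (P := P) (K := Scheme.fppfPrecoverage) hR _ hRq hk
  have h2 : pullback.fst γ ρ ≫ (γ ≫ k) = pullback.snd γ ρ ≫ (ρ ≫ k) := by
    rw [← Category.assoc, pullback.condition, Category.assoc]
  rw [h2] at h1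
  exact hr (pullback.snd γ ρ) τ (ρ ≫ k) hτ h1

variable {S : Scheme.{u}}

set_option backward.isDefEq.respectTransparency false in
theorem locP_of_comp_of_isLocallySurjective (P : MorphismProperty Scheme.{u})
    [P.IsLocalAtSource Scheme.fppfPrecoverage] (hr : HasRetractProp P)
    {X Y Z : Sp S} (hX : IsAlgSpace X) (g : X ⟶ Y) (h : Y ⟶ Z)
    [Sheaf.IsLocallySurjective g] (hgh : LocP P (g ≫ h)) : LocP P h := by
  intro V₀ W b c ψ hb hc comm
  have hs := Presheaf.imageSieve_mem (J S) g.hom (yonEquiv b)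
  obtain ⟨R₀, hR₀, hle⟩ := exists_fppf_presieve_of_mem_J _ hs
  refine MorphismProperty.IsLocalAtSource.of_forall_comp (P := P) hR₀ ?_
  intro T' i hi
  -- the lift over `T'`
  let V₁ : Over S := Over.mk (i ≫ V₀.hom)
  let π : V₁ ⟶ V₀ := Over.homMk i
  obtain ⟨t, ht⟩ : ∃ t : X.obj.obj (op V₁), g.hom.app _ t = Y.obj.map π.op (yonEquiv b) :=
    hle i hi
  let s : (yon S).obj V₁ ⟶ X := yonEquiv.symm t
  have hsg : s ≫ g = (yon S).map π ≫ b := by
    apply yonEquiv.injective
    rw [GrothendieckTopology.uliftYonedaEquiv_comp, Equiv.apply_symm_apply]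
    rw [← GrothendieckTopology.uliftYonedaEquiv_naturality]
    exact ht
  -- atlas of X
  obtain ⟨U, a, hae, has⟩ := hX.atlas
  -- U₁ = pullback of b along a ≫ g
  have hbrep := hb.rep
  have sq1 := hbrep.isPullback' (a ≫ g)
  have ha₁ : RepWith @Etale ((yon S).map (hbrep.snd (a ≫ g)) ≫ a) :=
    (RepWith @Etale).comp_mem _ _ ((RepWith @Etale).of_isPullback sq1 hb) hae
  have comm1 : ((yon S).map (hbrep.snd (a ≫ g)) ≫ a) ≫ g =
      (yon S).map (hbrep.fst' (a ≫ g)) ≫ b := by
    rw [Category.assoc]; exact sq1.w.symm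
  have hPγψ : P (hbrep.fst' (a ≫ g) ≫ ψ).left :=
    hgh _ c (hbrep.fst' (a ≫ g) ≫ ψ) ha₁ hc (by
      rw [← Category.assoc, comm1, Category.assoc, comm, Functor.map_comp, Category.assoc])
  -- V₁' = pullback of a along s
  have harep := hae.rep
  have sq2 := harep.isPullback' s
  have heE : Etale (harep.snd s).left := hae.property_snd s
  have heS : Surjective (harep.snd s).left := has.property_snd s
  -- the lift t₁ : V₁' ⟶ U₁
  have hw : (yon S).map (harep.snd s ≫ π) ≫ b = (yon S).map (harep.fst' s) ≫ (a ≫ g) := by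
    rw [Functor.map_comp, Category.assoc, ← hsg, ← Category.assoc, ← sq2.w, Category.assoc]
  obtain ⟨t₁, ht₁⟩ := (yon S).map_surjective (sq1.lift _ _ hw)
  have ht₁γ : t₁ ≫ hbrep.fst' (a ≫ g) = harep.snd s ≫ π := by
    apply (yon S).map_injective
    rw [Functor.map_comp, ht₁]
    exact sq1.lift_fst _ _ hw
  -- scheme level
  have hsing : Presieve.singleton (harep.snd s).left ∈ Scheme.fppfPrecoverage T' :=
    Scheme.Hom.singleton_mem_fppfPrecoverage _
  refine MorphismProperty.IsLocalAtSource.of_forall_comp (P := P) hsing ?_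
  rintro _ _ ⟨⟩
  have key : t₁.left ≫ (hbrep.fst' (a ≫ g)).left = (harep.snd s).left ≫ i := by
    have := congr($(ht₁γ).left)
    simp only [Over.comp_left] at this
    exact this
  haveI : Flat ((harep.snd s).left ≫ i) := by
    haveI : Flat i := (hR₀.2 hi).1
    infer_instance
  haveI : LocallyOfFinitePresentation ((harep.snd s).left ≫ i) := by
    haveI : LocallyOfFinitePresentation i := (hR₀.2 hi).2
    infer_instance
  have := section_trick P hr t₁.left (hbrep.fst' (a ≫ g)).left ((harep.snd s).left ≫ i) key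
    ψ.left hPγψ
  rwa [Category.assoc] at this

end Groth.Agent.Helper19.SrcLoc
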