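import Mathlib
import Groth.Agent.S0115
import Groth.Agent.S10559
import Groth.Agent.Lib.Helper15.AlgSpUnram
import Groth.Agent.Lib.Helper15.AlgSpPoints

/-!
# Smoothness / étaleness descend along fppf surjections of algebraic spaces
-/

set_option autoImplicit false
universe u
open CategoryTheory CategoryTheory.Limits AlgebraicGeometry Opposite MorphismProperty
open AlgSp

namespace Groth.Agent.Helper19.SrcLoc

open Groth.Agent.Helper15

variable {S : Scheme.{u}}

set_option backward.isDefEq.respectTransparency false in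
/-- Lifting an étale chart of `Y` along a surjective `f : X ⟶ Y` to a chart of `X` whose
chart morphism is surjective. -/
theorem exists_surj_chart_lift {X Y : Sp S} (hX : IsAlgSpace X) (f : X ⟶ Y)
    (hs : IsSurjectiveMor f) {V : Over S}
    (a : (yon S).obj V ⟶ Y) (ha : RepWith @Etale a) :
    ∃ (U : Over S) (a' : (yon S).obj U ⟶ X) (φ : U ⟶ V),
      RepWith @Etale a' ∧ a' ≫ f = (yon S).map φ ≫ a ∧ Surjective φ.left := by
  obtain ⟨U₀, p₀, h₀e, h₀s⟩ := hX.atlas
  have hq := ha.rep
  have sq := hq.isPullback' (p₀ ≫ f)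
  refine ⟨hq.pullback (p₀ ≫ f), (yon S).map (hq.snd (p₀ ≫ f)) ≫ p₀, hq.fst' (p₀ ≫ f), ?_, ?_, ?_⟩
  · exact (RepWith @Etale).comp_mem _ _ ((RepWith @Etale).of_isPullback sq ha) h₀e
  · rw [Category.assoc]; exact sq.w.symm
  · have h1 : IsSurjectiveMor (p₀ ≫ f) := by
      intro y
      obtain ⟨x, hx⟩ := hs y
      obtain ⟨u, hu⟩ := isSurjectiveMor_of_repWith_surjective p₀ h₀s x
      exact ⟨u, by rw [Points.map_comp, hu, hx]⟩
    have h2 : IsSurjectiveMor ((yon S).map (hq.fst' (p₀ ≫ f))) :=
      isSurjectiveMor_of_isPullback sq.flip h1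
    exact (repWith_yon_map_iff @Surjective _).1
      ((repWith_surjective_iff_of_representable _ (representable_yon_map _)).2 h2)

theorem locP_smooth_of_fppf_comp {X Y B : Sp S} (hX : IsAlgSpace X) (f : X ⟶ Y) (q : Y ⟶ B)
    (hs : IsSurjectiveMor f) (hfl : LocP @Flat f)
    (hfp : LocP @LocallyOfFinitePresentation f) (h : LocP @Smooth (f ≫ q)) :
    LocP @Smooth q := by
  intro V W a c ψ ha hc comm
  obtain ⟨U, a', φ, ha', comm1, hφs⟩ := exists_surj_chart_lift hX f hs a ha
  haveI : Flat φ.left := hfl a' a φ ha' ha comm1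
  haveI : LocallyOfFinitePresentation φ.left := hfp a' a φ ha' ha comm1
  haveI : Surjective φ.left := hφs
  have h3 : Smooth (φ ≫ ψ).left := h a' c (φ ≫ ψ) ha' hc (by
    rw [← Category.assoc, comm1, Category.assoc, comm, Functor.map_comp, Category.assoc])
  haveI : Smooth (φ.left ≫ ψ.left) := h3
  exact Groth.Agent.S0115.result φ.left ψ.left

theorem isEtaleMor_of_fppf_of_comp {X Y B : Sp S} (hX : IsAlgSpace X) (hY : IsAlgSpace Y)
    (hB : IsAlgSpace B) (f : X ⟶ Y) (q : Y ⟶ B)
    (hfl : LocP @Flat f) (hfp : LocP @LocallyOfFinitePresentation f)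
    (h : IsEtaleMor (f ≫ q)) : IsEtaleMor f := by
  have h1 : LocP @Etale (f ≫ q) := locP_etale_of_isEtaleMor hB _ h
  have h2 : LocP (@LocallyOfFiniteType ⊓ @FormallyUnramified) (f ≫ q) :=
    locP_mono etale_le_lft_unramified h1
  have h3 : RepWith @IsOpenImmersion (pullback.diagonal (f ≫ q)) :=
    repWith_isOpenImmersion_diagonal_of_locP_unramified hX hB _ h2
  have h4 : RepWith @IsOpenImmersion (pullback.diagonal f) := isSeparatedMor_of_comp f q h3
  have h5 : LocP (@LocallyOfFiniteType ⊓ @FormallyUnramified) f :=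
    locP_unramified_of_diagonal hX f (locP_mono lfp_le_lft hfp) h4
  exact isEtaleMor_of_lfp_flat_unramified hY f hfp hfl h5

end Groth.Agent.Helper19.SrcLoc
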